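import Mathlib.GroupTheory.Sylow
import Mathlib.GroupTheory.Nilpotent
import Cfsg.Agent.Lib.Components2.SylowFacts

/-!
M. Hall's product formula for the number of Sylow subgroups (helper77).
-/

namespace CfsgLib.Components2

open scoped Pointwise

variable {G : Type*} [Group G]

/-- If `A ≤ C` and `K` is normal, then `|K A : C ⊓ K A| = |K : C ⊓ K|`. -/
theorem relIndex_sup_of_le (C K A : Subgroup G) [K.Normal] (hA : A ≤ C) :
    C.relIndex (K ⊔ A) = C.relIndex K := by
  have h : (↑(K ⊔ A) : Set G) = (K : Set G) * (A : Set G) := Subgroup.normal_mul K A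
  refine (Nat.card_congr (Equiv.ofBijective
    (Subgroup.quotientSubgroupOfEmbeddingOfLE C (le_sup_left : K ≤ K ⊔ A)) ⟨?_, ?_⟩)).symm
  · exact Function.Embedding.injective _
  · intro q
    obtain ⟨⟨x, hx⟩, rfl⟩ := QuotientGroup.mk_surjective q
    have hx' : x ∈ (K : Set G) * (A : Set G) := h ▸ hx
    obtain ⟨n, hn, c, hc, rfl⟩ := hx'
    refine ⟨QuotientGroup.mk ⟨n, hn⟩, ?_⟩
    apply QuotientGroup.eq.2
    simpa [Subgroup.mem_subgroupOf] using hA hc

variable [Finite G] {p : ℕ} [Fact p.Prime]

/-- `Sylow.card_eq_index_normalizer` with the subgroup coercion. -/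
theorem card_sylow_eq_index (P : Sylow p G) :
    Nat.card (Sylow p G) = (Subgroup.normalizer ((P : Subgroup G) : Set G)).index :=
  P.card_eq_index_normalizer

/-- The number of Sylow subgroups of a subgroup containing `P`. -/
theorem card_sylow_subgroup (P : Sylow p G) {H : Subgroup G} (hP : (P : Subgroup G) ≤ H) :
    Nat.card (Sylow p H) = (Subgroup.normalizer ((P : Subgroup G) : Set G)).relIndex H := by
  rw [(P.subtype hP).card_eq_index_normalizer, Subgroup.relIndex,
    Subgroup.subgroupOf_normalizer_eq hP]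
  rfl

/-- The number of Sylow subgroups of a normal subgroup `K`. -/
theorem card_sylow_normal (P : Sylow p G) (K : Subgroup G) [K.Normal] :
    Nat.card (Sylow p K) =
      (Subgroup.normalizer (((P : Subgroup G) ⊓ K : Subgroup G) : Set G)).relIndex K := by
  obtain ⟨D, hD⟩ := exists_sylow_map_subtype_eq_inf K P
  have h : (D : Subgroup K) = ((P : Subgroup G) ⊓ K).subgroupOf K := by
    rw [← hD, Subgroup.subgroupOf, Subgroup.comap_map_eq_self_of_injective K.subtype_injective]
  rw [D.card_eq_index_normalizer, Subgroup.relIndex,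
    Subgroup.subgroupOf_normalizer_eq (inf_le_right : (P : Subgroup G) ⊓ K ≤ K), ← h]
  rfl

/-- A group with a normal Sylow subgroup has only one. -/
theorem card_sylow_eq_one_of_normal (P : Sylow p G) (h : (P : Subgroup G).Normal) :
    Nat.card (Sylow p G) = 1 := by
  rw [card_sylow_eq_index P, show (Subgroup.normalizer ((P : Subgroup G) : Set G)) = ⊤ from
    Subgroup.normalizer_eq_top_iff.2 h, Subgroup.index_top]

/-- A nilpotent group has exactly one Sylow `p`-subgroup. -/
theorem card_sylow_eq_one_of_isNilpotent (h : Group.IsNilpotent G) :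
    Nat.card (Sylow p G) = 1 := by
  obtain ⟨P⟩ : Nonempty (Sylow p G) := inferInstance
  have := (Group.isNilpotent_of_finite_tfae (G := G)).out 0 3
  exact card_sylow_eq_one_of_normal P (this.mp h p inferInstance P)

/-- The number of Sylow subgroups is an isomorphism invariant. -/
theorem card_sylow_congr {H : Type*} [Group H] [Finite H] (e : G ≃* H) :
    Nat.card (Sylow p G) = Nat.card (Sylow p H) := by
  obtain ⟨P⟩ : Nonempty (Sylow p G) := inferInstance
  have hsurj : Function.Surjective e.toMonoidHom := e.surjective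
  rw [card_sylow_eq_index P, card_sylow_eq_index (P.mapSurjective hsurj),
    Sylow.coe_mapSurjective,
    ← Subgroup.map_normalizer_eq_of_bijective (P : Subgroup G) (f := e.toMonoidHom) e.bijective]
  exact (Subgroup.index_map_equiv _ e).symm

/-- `n_p(G) = n_p(G/K) n_p(PK)`. -/
theorem card_sylow_quotient_mul (P : Sylow p G) (K : Subgroup G) [K.Normal] :
    Nat.card (Sylow p G) =
      Nat.card (Sylow p (G ⧸ K)) * Nat.card (Sylow p ((P : Subgroup G) ⊔ K : Subgroup G)) := by
  have hsurj := QuotientGroup.mk'_surjective K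
  set N := Subgroup.normalizer ((P : Subgroup G) : Set G) with hN
  set M := (Subgroup.normalizer (((P : Subgroup G).map (QuotientGroup.mk' K)) : Set (G ⧸ K))).comap
    (QuotientGroup.mk' K) with hM
  have hMeq : M = Subgroup.normalizer ((((P : Subgroup G) ⊔ K) : Subgroup G) : Set G) := by
    rw [hM, Subgroup.comap_normalizer_eq_of_surjective _ hsurj, Subgroup.comap_map_eq,
      QuotientGroup.ker_mk']
  have hKM : K ≤ M := hMeq ▸ le_sup_right.trans Subgroup.le_normalizer
  have hNM : N ≤ M := by
    rw [hM, ← Subgroup.map_le_iff_le_comap]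
    exact Subgroup.le_normalizer_map _
  have hfr : M ≤ K ⊔ N := by
    intro g hg
    rw [hMeq, Subgroup.mem_normalizer_iff] at hg
    have hle : ((g • P : Sylow p G) : Subgroup G) ≤ (P : Subgroup G) ⊔ K := by
      intro x hx
      rw [Sylow.coe_subgroup_smul, Subgroup.mem_smul_pointwise_iff_exists] at hx
      obtain ⟨y, hy, rfl⟩ := hx
      exact (hg y).1 (Subgroup.mem_sup_left hy)
    obtain ⟨c, hc, hce⟩ := exists_conj_sylow_of_le P (g • P) le_sup_left hle
    rw [← mul_smul, Sylow.smul_eq_iff_mem_normalizer] at hce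
    have hc' : c ∈ K ⊔ N := (sup_le (Subgroup.le_normalizer.trans le_sup_right) le_sup_left :
      (P : Subgroup G) ⊔ K ≤ K ⊔ N) hc
    have := mul_mem (inv_mem hc') (Subgroup.mem_sup_right (S := K) hce)
    rwa [inv_mul_cancel_left] at this
  have h1 : Nat.card (Sylow p (G ⧸ K)) = M.index := by
    rw [card_sylow_eq_index (P.mapSurjective hsurj), hM, Subgroup.index_comap_of_surjective _ hsurj,
      Sylow.coe_mapSurjective]
  have h2 : Nat.card (Sylow p ((P : Subgroup G) ⊔ K : Subgroup G)) = N.relIndex M := by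
    rw [card_sylow_subgroup P le_sup_left, ← hN, sup_comm,
      relIndex_sup_of_le N K (P : Subgroup G) Subgroup.le_normalizer,
      le_antisymm hfr (sup_le hKM hNM), relIndex_sup_of_le N K N le_rfl]
  rw [card_sylow_eq_index P, h1, h2, mul_comm, Subgroup.relIndex_mul_index hNM]

/-- `n_p(PK) = n_p(K) n_p(N_{PK}(P ⊓ K))` for a normal subgroup `K`. -/
theorem card_sylow_sup_normal (P : Sylow p G) (K : Subgroup G) [K.Normal] :
    Nat.card (Sylow p ((P : Subgroup G) ⊔ K : Subgroup G)) = Nat.card (Sylow p K) *
      Nat.card (Sylow p (((P : Subgroup G) ⊔ K) ⊓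
        Subgroup.normalizer (((P : Subgroup G) ⊓ K : Subgroup G) : Set G) : Subgroup G)) := by
  set D : Subgroup G := (P : Subgroup G) ⊓ K with hD
  set X : Subgroup G := (P : Subgroup G) ⊔ K with hX
  set N := Subgroup.normalizer ((P : Subgroup G) : Set G) with hN
  set ND := Subgroup.normalizer (D : Set G) with hND
  have hPD : (P : Subgroup G) ≤ ND := by
    intro x hx
    rw [Subgroup.mem_normalizer_iff]
    intro y
    constructor
    · rintro ⟨h1, h2⟩
      exact Subgroup.mem_inf.2 ⟨mul_mem (mul_mem hx h1) (inv_mem hx), (inferInstance : K.Normal).conj_mem y h2 x⟩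
    · rintro ⟨h1, h2⟩
      constructor
      · have := mul_mem (mul_mem (inv_mem hx) h1) hx
        have e : x⁻¹ * (x * y * x⁻¹) * x = y := by group
        rw [e] at this
        exact this
      · have := (inferInstance : K.Normal).conj_mem _ h2 x⁻¹
        simpa [mul_assoc] using this
  have hle : N ⊓ X ≤ X ⊓ ND := by
    intro x hx
    refine Subgroup.mem_inf.2 ⟨hx.2, ?_⟩
    rw [Subgroup.mem_normalizer_iff]
    intro y
    have h1 := Subgroup.mem_normalizer_iff.1 hx.1 y
    constructor
    · rintro ⟨a, b⟩
      exact ⟨h1.1 a, (inferInstance : K.Normal).conj_mem y b x⟩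
    · rintro ⟨a, b⟩
      refine ⟨h1.2 a, ?_⟩
      have := (inferInstance : K.Normal).conj_mem _ b x⁻¹
      simpa [mul_assoc] using this
  have hPX : (P : Subgroup G) ≤ X := le_sup_left
  rw [card_sylow_subgroup P hPX, card_sylow_normal P K,
    card_sylow_subgroup P (le_inf hPX hPD), ← hN, ← hND,
    ← relIndex_sup_of_le ND K (P : Subgroup G) hPD, sup_comm K, ← hX]
  rw [← Subgroup.inf_relIndex_right N X, ← Subgroup.relIndex_mul_relIndex _ _ _ hle inf_le_left,
    Subgroup.inf_relIndex_right ND X |>.symm, inf_comm ND X, mul_comm]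
  congr 1
  rw [← Subgroup.inf_relIndex_right N (X ⊓ ND)]
  congr 1
  exact le_antisymm (le_inf inf_le_left hle) (le_inf inf_le_left (inf_le_right.trans inf_le_left))

/-- Quotienting by a normal `p`-subgroup does not change the number of Sylow subgroups. -/
theorem card_sylow_quotient_of_isPGroup (K : Subgroup G) [K.Normal] (hK : IsPGroup p K) :
    Nat.card (Sylow p (G ⧸ K)) = Nat.card (Sylow p G) := by
  obtain ⟨P⟩ : Nonempty (Sylow p G) := inferInstance
  rw [card_sylow_quotient_mul P K, card_sylow_subgroup P le_sup_left,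
    Subgroup.relIndex_eq_one.2 ?_, mul_one]
  rw [sup_eq_left.2 (hK.le_sylow_of_normal P)]
  exact Subgroup.le_normalizer

/-- Quotienting by a central subgroup does not change the number of Sylow subgroups. -/
theorem card_sylow_quotient_of_le_center (K : Subgroup G) [K.Normal] (hK : K ≤ Subgroup.center G) :
    Nat.card (Sylow p (G ⧸ K)) = Nat.card (Sylow p G) := by
  obtain ⟨P⟩ : Nonempty (Sylow p G) := inferInstance
  rw [card_sylow_quotient_mul P K, card_sylow_subgroup P le_sup_left,
    Subgroup.relIndex_eq_one.2 ?_, mul_one]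
  refine sup_le Subgroup.le_normalizer (hK.trans fun z hz => ?_)
  rw [Subgroup.mem_normalizer_iff]
  intro y
  rw [(Subgroup.mem_center_iff.1 hz y).symm, mul_inv_cancel_right]

/-- M. Hall's product formula. -/
theorem card_sylow_product (P : Sylow p G) (K : Subgroup G) [K.Normal] :
    Nat.card (Sylow p G) = Nat.card (Sylow p (G ⧸ K)) * Nat.card (Sylow p K) *
      Nat.card (Sylow p (((P : Subgroup G) ⊔ K) ⊓
        Subgroup.normalizer (((P : Subgroup G) ⊓ K : Subgroup G) : Set G) : Subgroup G)) := by
  rw [card_sylow_quotient_mul P K, card_sylow_sup_normal P K, mul_assoc]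

end CfsgLib.Components2
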