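import Cfsg.Agent.Lib.Components2.TitsInvCheck

/-! A fast version of the word comparison for bit matrices: all columns are handled in one natural number with
slots of width 52. -/

set_option autoImplicit false
set_option maxRecDepth 100000

namespace CfsgLib.Components2.TitsPack

open CfsgLib.Components2.TitsInv

/-- Slots of width 52. -/
def pack : (ℕ → ℕ) → ℕ → ℕ
  | _, 0 => 0
  | f, n + 1 => f 0 + 2 ^ 52 * pack (fun c => f (c + 1)) n

/-- A one in each slot. -/
def ones : ℕ := 0x1000000000000100000000000010000000000001000000000000100000000000010000000000001000000000000100000000000010000000000001000000000000100000000000010000000000001000000000000100000000000010000000000001000000000000100000000000010000000000001000000000000100000000000010000000000001000000000000100000000000010000000000001000000000000100000000000010000000000001000000000000100000000000010000000000001000000000000100000000000010000000000001000000000000100000000000010000000000001000000000000100000000000010000000000001000000000000100000000000010000000000001000000000000100000000000010000000000001000000000000100000000000010000000000001000000000000100000000000010000000000001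

/-- The identity matrix. -/
def ident : ℕ := 0x8000000000000400000000000020000000000001000000000000080000000000004000000000000200000000000010000000000000800000000000040000000000002000000000000100000000000008000000000000400000000000020000000000001000000000000080000000000004000000000000200000000000010000000000000800000000000040000000000002000000000000100000000000008000000000000400000000000020000000000001000000000000080000000000004000000000000200000000000010000000000000800000000000040000000000002000000000000100000000000008000000000000400000000000020000000000001000000000000080000000000004000000000000200000000000010000000000000800000000000040000000000002000000000000100000000000008000000000000400000000000020000000000001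

theorem ones_eq : pack (fun _ => 1) 52 = ones := by decide +kernel

theorem ident_eq : pack (fun c => 2 ^ c) 52 = ident := by decide +kernel

/-- A matrix given by bit columns, applied in every slot. -/
noncomputable def appP (l : List ℕ) : ℕ → ℕ :=
  List.rec (motive := fun _ => ℕ → ℕ) (fun _ => 0)
    (fun a _ ih M => Nat.xor (Nat.mul (Nat.land M ones) a) (ih (Nat.shiftRight M 1))) l

/-- A word applied in every slot. -/
noncomputable def actP (w : List ℕ) (M : ℕ) : ℕ := w.foldr (fun r x => appP (colX r) x) M

theorem testBit_split (a b k : ℕ) (ha : a < 2 ^ 52) :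
    (a + 2 ^ 52 * b).testBit k = if k < 52 then a.testBit k else b.testBit (k - 52) := by
  rw [add_comm, Nat.testBit_two_pow_mul_add b ha]

theorem pack_xor : ∀ (n : ℕ) (f g : ℕ → ℕ), (∀ c, f c < 2 ^ 52) → (∀ c, g c < 2 ^ 52) →
    Nat.xor (pack f n) (pack g n) = pack (fun c => Nat.xor (f c) (g c)) n
  | 0, _, _, _, _ => by simp [pack]
  | n + 1, f, g, hf, hg => by
    refine Nat.eq_of_testBit_eq fun k => ?_
    show (pack f (n + 1) ^^^ pack g (n + 1)).testBit k = _
    simp only [pack]
    rw [Nat.testBit_xor, testBit_split _ _ _ (hf 0), testBit_split _ _ _ (hg 0),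
      testBit_split (Nat.xor (f 0) (g 0)) _ _ (Nat.xor_lt_two_pow (hf 0) (hg 0)),
      ← pack_xor n _ _ (fun c => hf (c + 1)) (fun c => hg (c + 1))]
    split_ifs
    · exact (Nat.testBit_xor ..).symm
    · exact (Nat.testBit_xor ..).symm

theorem shift_split (a b j : ℕ) (hj : j < 52) :
    (a + 2 ^ 52 * b) >>> j = a / 2 ^ j + 2 ^ (52 - j) * b := by
  rw [Nat.shiftRight_eq_div_pow, show (2 : ℕ) ^ 52 = 2 ^ j * 2 ^ (52 - j) by
    rw [← pow_add]; congr 1; omega, mul_assoc, Nat.add_mul_div_left _ _ (by positivity)]

theorem pack_bit : ∀ (n : ℕ) (f : ℕ → ℕ), (∀ c, f c < 2 ^ 52) → ∀ j < 52,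
    Nat.land (pack f n >>> j) (pack (fun _ => 1) n) = pack (fun c => f c >>> j % 2) n
  | 0, _, _, _, _ => by simp [pack]
  | n + 1, f, hf, j, hj => by
    refine Nat.eq_of_testBit_eq fun k => ?_
    show (pack f (n + 1) >>> j &&& pack (fun _ => 1) (n + 1)).testBit k = _
    simp only [pack]
    rw [Nat.testBit_and, Nat.testBit_shiftRight, testBit_split _ _ _ (hf 0),
      testBit_split 1 _ _ (by norm_num), testBit_split (f 0 >>> j % 2) _ _
        ((Nat.mod_lt _ (by norm_num)).trans (by norm_num)),
      ← pack_bit n _ (fun c => hf (c + 1)) j hj]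
    by_cases hk : k < 52
    · rw [if_pos hk, if_pos hk]
      rcases Nat.eq_zero_or_pos k with rfl | hk0
      · rw [if_pos (by omega : j + 0 < 52)]
        simp [Nat.testBit, Nat.shiftRight_eq_div_pow]
      · have h1 : (1 : ℕ).testBit k = false := Nat.testBit_lt_two_pow (Nat.one_lt_two_pow hk0.ne')
        have h2 : (f 0 >>> j % 2).testBit k = false :=
          Nat.testBit_lt_two_pow ((Nat.mod_lt _ (by norm_num)).trans_le (Nat.le_self_pow hk0.ne' 2))
        rw [h1, h2, Bool.and_false]
    · rw [if_neg hk, if_neg hk, if_neg (by omega : ¬ j + k < 52),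
        show Nat.land (pack (fun c => f (c + 1)) n >>> j) (pack (fun _ => 1) n) =
          pack (fun c => f (c + 1)) n >>> j &&& pack (fun _ => 1) n from rfl,
        Nat.testBit_and, Nat.testBit_shiftRight, show j + (k - 52) = j + k - 52 by omega]

theorem pack_mul (a : ℕ) : ∀ (n : ℕ) (f : ℕ → ℕ), pack f n * a = pack (fun c => f c * a) n
  | 0, _ => by simp [pack]
  | n + 1, f => by simp only [pack]; rw [add_mul, mul_assoc, pack_mul a n]

theorem pack_congr : ∀ (n : ℕ) {f g : ℕ → ℕ}, (∀ c < n, f c = g c) → pack f n = pack g n
  | 0, _, _, _ => rfl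
  | n + 1, f, g, h => by
    simp only [pack]
    rw [h 0 (by omega), pack_congr n fun c hc => h (c + 1) (by omega)]

theorem pack_inj : ∀ (n : ℕ) {f g : ℕ → ℕ}, (∀ c, f c < 2 ^ 52) → (∀ c, g c < 2 ^ 52) →
    pack f n = pack g n → ∀ c < n, f c = g c
  | 0, _, _, _, _, _ => fun c hc => absurd hc (by omega)
  | n + 1, f, g, hf, hg, h => by
    simp only [pack] at h
    have h0 : f 0 = g 0 := by
      have := congrArg (· % 2 ^ 52) h
      simp only [Nat.add_mul_mod_self_left] at this
      rwa [Nat.mod_eq_of_lt (hf 0), Nat.mod_eq_of_lt (hg 0)] at this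
    intro c hc
    cases c with
    | zero => exact h0
    | succ c =>
      refine pack_inj n (fun c => hf (c + 1)) (fun c => hg (c + 1)) ?_ c (by omega)
      rw [h0] at h
      exact Nat.eq_of_mul_eq_mul_left (by norm_num) (Nat.add_left_cancel h)

theorem app_lt : ∀ (l : List ℕ), (∀ a ∈ l, a < 2 ^ 52) → ∀ v, app l v < 2 ^ 52
  | [], _, _ => by show (0 : ℕ) < _; norm_num
  | a :: l, h, v => by
    show Nat.xor ((v % 2) * a) (app l (v / 2)) < _
    refine Nat.xor_lt_two_pow ?_ (app_lt l (fun b hb => h b (List.mem_cons_of_mem _ hb)) _)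
    rcases Nat.mod_two_eq_zero_or_one v with e | e <;> rw [e]
    · simp
    · simpa using h a (List.mem_cons_self ..)

theorem appP_pack (n : ℕ) (hn : n = 52) : ∀ (l : List ℕ), (∀ a ∈ l, a < 2 ^ 52) → ∀ (f : ℕ → ℕ), (∀ c, f c < 2 ^ 52) →
    ∀ j, j + l.length ≤ 52 → appP l (pack f n >>> j) = pack (fun c => app l (f c >>> j)) n
  | [], _, f, hf, j, _ => by
    show 0 = _
    clear hn
    induction n generalizing f with
    | zero => rfl
    | succ n ih => rw [pack, ← ih (fun c => f (c + 1)) fun c => hf (c + 1)]; rfl
  | a :: l, hl, f, hf, j, hj => by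
    simp only [List.length_cons] at hj
    have hl' : ∀ b ∈ l, b < 2 ^ 52 := fun b hb => hl b (List.mem_cons_of_mem _ hb)
    have hb : ∀ c, f c >>> j % 2 * a < 2 ^ 52 := fun c => by
      rcases Nat.mod_two_eq_zero_or_one (f c >>> j) with e | e <;> rw [e]
      · simp
      · simpa using hl a (List.mem_cons_self ..)
    show Nat.xor (Nat.mul (Nat.land (pack f n >>> j) ones) a) (appP l (pack f n >>> j >>> 1)) = _
    rw [← Nat.shiftRight_add, appP_pack n hn l hl' f hf (j + 1) (by omega), ← ones_eq]
    subst hn
    rw [pack_bit 52 f hf j (by omega), show ∀ x : ℕ, Nat.mul x a = x * a from fun _ => rfl, pack_mul,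
      pack_xor 52 _ _ hb fun c => app_lt l hl' _]
    refine pack_congr 52 fun c _ => ?_
    show _ = Nat.xor (f c >>> j % 2 * a) (app l (f c >>> j / 2))
    rw [Nat.shiftRight_succ]

/-- All columns of the root elements fit in a slot. -/
def colsLt : Bool := (List.range 48).all fun r => (colX r).all (fun a => decide (a < 2 ^ 52)) && decide ((colX r).length ≤ 52)

theorem colsLt_eq : colsLt = true := by decide +kernel

theorem actP_pack : ∀ (w : List ℕ), (∀ r ∈ w, r < 48) → ∀ (f : ℕ → ℕ), (∀ c, f c < 2 ^ 52) →
    actP w (pack f 52) = pack (fun c => act w (f c)) 52 ∧ ∀ c, act w (f c) < 2 ^ 52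
  | [], _, f, hf => ⟨rfl, hf⟩
  | r :: w, h, f, hf => by
    obtain ⟨h1, h2⟩ := actP_pack w (fun s hs => h s (List.mem_cons_of_mem _ hs)) f hf
    have hc := colsLt_eq
    simp only [colsLt, List.all_eq_true, List.mem_range, Bool.and_eq_true, decide_eq_true_eq] at hc
    obtain ⟨hc1, hc2⟩ := hc r (h r (List.mem_cons_self ..))
    refine ⟨?_, fun c => app_lt _ hc1 _⟩
    show appP (colX r) (actP w (pack f 52)) = pack (fun c => app (colX r) (act w (f c))) 52
    rw [h1]
    have := appP_pack 52 rfl (colX r) hc1 _ h2 0 (by omega)
    simpa using this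

/-- Two words with the same bit columns, decided on packed numbers. -/
noncomputable def eqP (l l' : List ℕ) : Bool :=
  (l.all fun r => usedRoots.contains r) && (l'.all fun r => usedRoots.contains r) &&
    Nat.beq (actP l ident) (actP l' ident)

theorem eqW_of_eqP {l l' : List ℕ} (h : eqP l l' = true) : eqW l l' = true := by
  simp only [eqP, Bool.and_eq_true, List.all_eq_true] at h
  obtain ⟨⟨h1, h2⟩, h3⟩ := h
  have hu : ∀ r, usedRoots.contains r = true → r < 48 := by
    intro r hr
    have : ∀ r ∈ usedRoots, r < 48 := by decide +kernel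
    exact this r (List.contains_iff_mem.1 hr)
  have hp : ∀ c, min (2 ^ c) (2 ^ 51) < 2 ^ 52 := fun c => (min_le_right _ _).trans_lt (by norm_num)
  have hid : ident = pack (fun c => min (2 ^ c) (2 ^ 51)) 52 := ident_eq.symm.trans (pack_congr 52 fun c hc =>
    (min_eq_left (Nat.pow_le_pow_right (by norm_num) (by omega))).symm)
  obtain ⟨e1, b1⟩ := actP_pack l (fun r hr => hu r (h1 r hr)) _ hp
  obtain ⟨e2, b2⟩ := actP_pack l' (fun r hr => hu r (h2 r hr)) _ hp
  have h4 := pack_inj 52 b1 b2 (by rw [← e1, ← e2, ← hid]; exact Nat.eq_of_beq_eq_true h3)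
  simp only [eqW, Bool.and_eq_true, List.all_eq_true, List.mem_range]
  refine ⟨⟨h1, h2⟩, fun c hc => ?_⟩
  have h5 := h4 c hc
  rw [min_eq_left (Nat.pow_le_pow_right (by norm_num) (by omega))] at h5
  rw [h5]
  simp

end CfsgLib.Components2.TitsPack
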