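import Cfsg.Agent.Lib.Components2.TitsPack

/-! Kernel checks for the subgroups of the Tits group containing a large 2-group: the sixteen monomial elements as
words in root elements, and for each of them an element of a deep term of the Borel subgroup which it moves out of
the Borel subgroup in a controlled way. -/

set_option autoImplicit false
set_option maxRecDepth 100000

namespace CfsgLib.Components2.TitsTwo

open CfsgLib.Components2.TitsInv CfsgLib.Components2.TitsPack

/-- The two fundamental monomial elements as words. -/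
def nw (k : ℕ) : List ℕ := if k = 0 then [33, 14, 33, 24, 23, 24] else [27, 20, 27, 25, 22, 25, 27, 20, 27, 25, 22, 25]

def flat (w : List ℕ) : List ℕ := w.flatMap nw

/-- A word in orbit elements. -/
def pos (ix : List ℕ) : List ℕ := ix.flatMap posAt

def sqWord (L : List (List ℕ)) : List ℕ := L.flatMap fun x => pos x ++ pos x

def vWord (Ls : List (List (List ℕ))) : List ℕ := Ls.flatMap fun L => sqWord L ++ sqWord L

def wds : List (List ℕ) := [[], [0], [1], [1, 0], [0, 1], [0, 1, 0], [1, 0, 1], [1, 0, 1, 0], [0, 1, 0, 1], [0, 1, 0, 1, 0], [1, 0, 1, 0, 1], [1, 0, 1, 0, 1, 0], [0, 1, 0, 1, 0, 1], [0, 1, 0, 1, 0, 1, 0], [1, 0, 1, 0, 1, 0, 1], [1, 0, 1, 0, 1, 0, 1, 0]]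

/-- The product of a generator and a listed word, as the number of a listed word. -/
def nextTab : List (List ℕ) := [[1, 2], [0, 3], [4, 0], [5, 1], [2, 6], [3, 7], [8, 4], [9, 5], [6, 10], [7, 11], [12, 8], [13, 9], [10, 14], [11, 15], [15, 12], [14, 13]]
def wd (i : ℕ) : List ℕ := wds.getD i []

def nxt (i k : ℕ) : ℕ := (nextTab.getD i []).getD k 0

/-- Word, deep element, and the two Borel parts and monomial part of the conjugate. -/
def certs : List (List ℕ × List (List (List ℕ)) × List ℕ × List ℕ × List ℕ) := [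
  ([1, 0], [[[1, 4, 0]]], [0, 1, 8, 3, 11], [1], [1]),
  ([0, 1], [[[1, 4, 0]]], [0, 6, 8, 10], [0], [0]),
  ([0, 1, 0], [[[0, 1, 2]], [[0, 1, 5]]], [0], [0], [0]),
  ([1, 0, 1], [[[1, 2]]], [7, 1, 3], [1], [1]),
  ([1, 0, 1, 0], [[[0, 3]]], [0, 1, 3], [1], [1]),
  ([0, 1, 0, 1], [[[0, 3]]], [3, 0], [0], [0]),
  ([0, 1, 0, 1, 0], [[[0, 3, 6]]], [0], [0], [0]),
  ([1, 0, 1, 0, 1], [[[2, 3, 4]]], [1, 3], [1], [1]),
  ([1, 0, 1, 0, 1, 0], [[[1, 4, 7]]], [1, 3], [1], [1]),
  ([0, 1, 0, 1, 0, 1], [[[1, 2], [0, 1, 5]]], [3, 0], [0], [0]),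
  ([0, 1, 0, 1, 0, 1, 0], [[[0, 1, 2]], [[1, 2], [1, 0, 2]]], [0], [0], [0]),
  ([1, 0, 1, 0, 1, 0, 1], [[[0, 3]], [[1, 2], [1, 0, 5]]], [1, 3], [1], [1]),
  ([1, 0, 1, 0, 1, 0, 1, 0], [[[1, 2]]], [0, 4, 11], [0, 1, 0, 1, 0, 1, 0], [4, 0])]

def evenY (x : List ℕ) : Bool :=
  (x.all fun i => decide (i < 12)) &&
    decide ((x.countP fun i => (els.getD i ⟨false, [], [], [], []⟩).y) % 2 = 0)

noncomputable def certOk : Bool :=
  certs.all fun c =>
    (c.2.1.all fun L => L.all evenY) && (c.2.2.1.all fun i => decide (i < 12)) &&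
      (c.2.2.2.2.all fun i => decide (i < 12)) &&
      (if c.1.length = 8 then decide (c.2.2.2.1 = wd 13) else decide (c.2.2.2.1 = c.1.take 1)) &&
      eqP (flat c.1 ++ vWord c.2.1 ++ (flat c.1).reverse) (pos c.2.2.1 ++ flat c.2.2.2.1 ++ pos c.2.2.2.2)

theorem certOk_eq : certOk = true := by decide +kernel

noncomputable def wordsOk : Bool :=
  (List.range 16).all fun i => (List.range 2).all fun k =>
    decide (nxt i k < 16) && eqP (nw k ++ flat (wd i)) (flat (wd (nxt i k)))

theorem wordsOk_eq : wordsOk = true := by decide +kernel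

end CfsgLib.Components2.TitsTwo
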